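/-
Local rings of a smooth morphism: reducedness, normality, regularity.
-/
import Groth.Agent.NormalSmooth.Basic
import Groth.Agent.SmoothReduced.Basic
import Groth.Agent.RegLocus.Smooth
import Mathlib.AlgebraicGeometry.Morphisms.Smooth

set_option autoImplicit false
set_option linter.style.haveILetI false
universe u
open AlgebraicGeometry CategoryTheory TensorProduct

namespace Groth.Agent.SmoothStalk

section ring

variable {R S : Type u} [CommRing R] [CommRing S] [Algebra R S] (P : Ideal S) [P.IsPrime]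
variable (hs : Algebra.Smooth R S)

attribute [local instance] Algebra.TensorProduct.rightAlgebra in
include hs in
theorem reduced_and_normal :
    (IsReduced (Localization.AtPrime P) ↔ IsReduced (Localization.AtPrime (P.comap (algebraMap R S)))) ∧
    ((IsDomain (Localization.AtPrime P) ∧ IsIntegrallyClosed (Localization.AtPrime P)) ↔
      (IsDomain (Localization.AtPrime (P.comap (algebraMap R S))) ∧
        IsIntegrallyClosed (Localization.AtPrime (P.comap (algebraMap R S))))) := by
  let p := P.comap (algebraMap R S)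
  let A := Localization.AtPrime p
  let B := Localization.AtPrime P
  let E := A ⊗[R] S
  letI : Algebra A B := (Localization.localRingHom p P (algebraMap R S) rfl).toAlgebra
  haveI : IsScalarTower R A B := .of_algebraMap_eq fun x => by
    rw [IsScalarTower.algebraMap_apply R S B]
    exact (Localization.localRingHom_to_map p P (algebraMap R S) rfl x).symm
  letI : Algebra E B :=
    (Algebra.TensorProduct.lift (Algebra.ofId A B) (IsScalarTower.toAlgHom R S B)
      fun _ _ => Commute.all _ _).toRingHom.toAlgebra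
  haveI : IsScalarTower A E B := .of_algebraMap_eq fun x => by
    show algebraMap A B x = Algebra.TensorProduct.lift (Algebra.ofId A B)
      (IsScalarTower.toAlgHom R S B) (fun _ _ => Commute.all _ _) (x ⊗ₜ 1)
    simp
  haveI : IsScalarTower S E B := .of_algebraMap_eq fun x => by
    show algebraMap S B x = Algebra.TensorProduct.lift (Algebra.ofId A B)
      (IsScalarTower.toAlgHom R S B) (fun _ _ => Commute.all _ _) (1 ⊗ₜ x)
    simp
  haveI : IsLocalization (Algebra.algebraMapSubmonoid S p.primeCompl) E := inferInstance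
  haveI hloc := IsLocalization.isLocalization_of_submonoid_le E B
    (Algebra.algebraMapSubmonoid S p.primeCompl) P.primeCompl (by
      rintro _ ⟨x, hx, rfl⟩
      exact hx)
  haveI := hs
  haveI : Algebra.Smooth A E := inferInstance
  haveI : IsLocalHom (algebraMap A B) := Localization.isLocalHom_localRingHom p P (algebraMap R S) rfl
  haveI : Module.Flat E B := IsLocalization.flat _ (P.primeCompl.map (algebraMap S E))
  haveI : Module.Flat A B := Module.Flat.trans A E B
  haveI : Module.FaithfullyFlat A B := Module.FaithfullyFlat.of_flat_of_isLocalHom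
  refine ⟨⟨fun h => isReduced_of_injective (algebraMap A B) (FaithfulSMul.algebraMap_injective A B), fun h => ?_⟩,
    ⟨fun h => ?_, fun h => ?_⟩⟩
  · haveI : IsReduced A := h
    haveI : IsReduced E := SmoothReduced.isReduced_of_smooth A E
    exact isReduced_localizationPreserves (P.primeCompl.map (algebraMap S E)) B (inferInstance : IsReduced E)
  · haveI := h.1; haveI := h.2
    exact Hensel.isNormal_of_faithfullyFlat A B
  · haveI := h.1; haveI := h.2
    have hA : EGA4.IsNormalRing A := fun q _ =>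
      ⟨inferInstance, isIntegrallyClosed_of_isLocalization _ q.primeCompl q.primeCompl_le_nonZeroDivisors⟩
    have hE := NormalSmooth.isNormalRing_of_smooth A E hA
    let Q := (IsLocalRing.maximalIdeal B).comap (algebraMap E B)
    have : IsLocalization.AtPrime B Q := by
      refine IsLocalization.isLocalization_of_is_exists_mul_mem B (P.primeCompl.map (algebraMap S E)) Q.primeCompl ?_ ?_
      · rintro _ ⟨x, hx, rfl⟩ hxQ
        have hm : algebraMap S B x ∈ IsLocalRing.maximalIdeal B := by
          rw [IsScalarTower.algebraMap_apply S E B]; exact hxQ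
        exact (IsLocalRing.mem_maximalIdeal _).1 hm (IsLocalization.map_units (M := P.primeCompl) B ⟨x, hx⟩)
      · rintro ⟨x, hx⟩
        obtain ⟨⟨y, m⟩, hy⟩ := IsLocalization.surj (P.primeCompl.map (algebraMap S E))
          ((IsLocalRing.notMem_maximalIdeal.1 hx).unit⁻¹ : Bˣ).val
        obtain ⟨⟨c, hc⟩, hc'⟩ := IsLocalization.exists_of_eq (M := P.primeCompl.map (algebraMap S E)) (S := B)
          (x := x * y) (y := (m : E)) (by
            rw [map_mul, ← hy, ← mul_assoc]
            rw [show algebraMap E B x * _ = 1 from (IsLocalRing.notMem_maximalIdeal.1 hx).mul_val_inv, one_mul])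
        refine ⟨c * y, ?_⟩
        rw [mul_assoc, mul_comm y x]
        rw [hc']
        exact mul_mem hc m.2
    obtain ⟨h1, h2⟩ := hE Q
    let e := (IsLocalization.algEquiv Q.primeCompl (Localization.AtPrime Q) B).toRingEquiv
    haveI : IsDomain B := e.symm.toMulEquiv.isDomain
    exact ⟨inferInstance, IsIntegrallyClosed.of_equiv (R := Localization.AtPrime Q) (S := B) e⟩

theorem regular [IsNoetherianRing R] (hs : Algebra.Smooth R S) :
    IsRegularLocalRing (Localization.AtPrime P) ↔
      IsRegularLocalRing (Localization.AtPrime (P.comap (algebraMap R S))) :=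
  ⟨RegLocus.regular_descend R S P, fun h => RegLocus.regular_of_smoothAt R S P h⟩

end ring

section scheme

variable {X Y : Scheme.{u}} (f : X ⟶ Y)

/-- Stalks at a point in affine charts with smooth ring map. -/
theorem exists_equivs {U : Y.Opens} (hU : IsAffineOpen U) {V : X.Opens} (hV : IsAffineOpen V)
    (e : V ≤ f ⁻¹ᵁ U) {x : X} (hx : x ∈ V) :
    letI := (f.appLE U V e).hom.toAlgebra
    Nonempty (Localization.AtPrime (hV.primeIdealOf ⟨x, hx⟩).asIdeal ≃+* X.presheaf.stalk x) ∧
    Nonempty (Localization.AtPrime ((hV.primeIdealOf ⟨x, hx⟩).asIdeal.comap (algebraMap Γ(Y, U) Γ(X, V))) ≃+*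
      Y.presheaf.stalk (f x)) := by
  letI := (f.appLE U V e).hom.toAlgebra
  constructor
  · letI := TopCat.Presheaf.algebra_section_stalk X.presheaf (U := V) ⟨x, hx⟩
    have := hV.isLocalization_stalk ⟨x, hx⟩
    exact ⟨(IsLocalization.algEquiv (hV.primeIdealOf ⟨x, hx⟩).asIdeal.primeCompl _ (X.presheaf.stalk x)).toRingEquiv⟩
  · letI := TopCat.Presheaf.algebra_section_stalk Y.presheaf (U := U) ⟨f x, e hx⟩
    have := hU.isLocalization_stalk ⟨f x, e hx⟩
    have hp : (hV.primeIdealOf ⟨x, hx⟩).asIdeal.comap (algebraMap Γ(Y, U) Γ(X, V)) =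
        (hU.primeIdealOf ⟨f x, e hx⟩).asIdeal :=
      congrArg PrimeSpectrum.asIdeal (IsAffineOpen.comap_primeIdealOf_appLE U hU V hV e hx)
    have : IsLocalization.AtPrime (Y.presheaf.stalk (f x))
        ((hV.primeIdealOf ⟨x, hx⟩).asIdeal.comap (algebraMap Γ(Y, U) Γ(X, V))) := by
      simp only [hp]; assumption
    exact ⟨(IsLocalization.algEquiv ((hV.primeIdealOf ⟨x, hx⟩).asIdeal.comap (algebraMap Γ(Y, U) Γ(X, V))).primeCompl
      _ (Y.presheaf.stalk (f x))).toRingEquiv⟩

end scheme

end Groth.Agent.SmoothStalk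

namespace Groth.Agent.SmoothStalk

variable {X Y : Scheme.{u}} (f : X ⟶ Y)

theorem reduced_normal_stalk [LocallyOfFinitePresentation f] (x : X) (hx : x ∈ f.smoothLocus) :
    (_root_.IsReduced (X.presheaf.stalk x) ↔ _root_.IsReduced (Y.presheaf.stalk (f x))) ∧
    ((IsDomain (X.presheaf.stalk x) ∧ IsIntegrallyClosed (X.presheaf.stalk x)) ↔
      (IsDomain (Y.presheaf.stalk (f x)) ∧ IsIntegrallyClosed (Y.presheaf.stalk (f x)))) := by
  obtain ⟨U, hU, V, hV, e, hxV, hs⟩ := exists_smooth_of_formallySmooth_stalk f x hx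
  letI := (f.appLE U V e).hom.toAlgebra
  obtain ⟨⟨e₁⟩, ⟨e₂⟩⟩ := exists_equivs f hU hV e hxV
  obtain ⟨hr, hn⟩ := reduced_and_normal (R := Γ(Y, U)) (hV.primeIdealOf ⟨x, hxV⟩).asIdeal hs
  refine ⟨⟨fun h => ?_, fun h => ?_⟩, ⟨fun h => ?_, fun h => ?_⟩⟩
  · have := hr.1 (isReduced_of_injective e₁ e₁.injective)
    exact isReduced_of_injective e₂.symm e₂.symm.injective
  · have := hr.2 (isReduced_of_injective e₂ e₂.injective)
    exact isReduced_of_injective e₁.symm e₁.symm.injective
  · have := h.1; have := h.2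
    obtain ⟨h1, h2⟩ := hn.1 ⟨e₁.toMulEquiv.isDomain, IsIntegrallyClosed.of_equiv e₁.symm⟩
    exact ⟨e₂.symm.toMulEquiv.isDomain, IsIntegrallyClosed.of_equiv e₂⟩
  · have := h.1; have := h.2
    obtain ⟨h1, h2⟩ := hn.2 ⟨e₂.toMulEquiv.isDomain, IsIntegrallyClosed.of_equiv e₂.symm⟩
    exact ⟨e₁.symm.toMulEquiv.isDomain, IsIntegrallyClosed.of_equiv e₁⟩

theorem mem_smoothLocus [LocallyOfFinitePresentation f] (x : X)
    (hx : ∃ U : X.Opens, x ∈ U ∧ Smooth (U.ι ≫ f)) : x ∈ f.smoothLocus := by
  obtain ⟨U, hxU, hs⟩ := hx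
  have h := Scheme.Hom.smoothLocus_eq_top (U.ι ≫ f)
  have hm : (⟨x, hxU⟩ : U.toScheme) ∈ (U.ι ≫ f).smoothLocus := h ▸ trivial
  have hm' : ((U.ι ≫ f).stalkMap ⟨x, hxU⟩).hom.FormallySmooth := hm
  rw [Scheme.Hom.stalkMap_comp] at hm'
  rw [Scheme.Hom.mem_smoothLocus]
  exact (RingHom.FormallySmooth.respectsIso.cancel_right_isIso _ (U.ι.stalkMap ⟨x, hxU⟩)).1 hm'

theorem flat_stalkMap [LocallyOfFinitePresentation f] (x : X) (hx : x ∈ f.smoothLocus) :
    (f.stalkMap x).hom.Flat := by
  obtain ⟨U, hU, V, hV, e, hxV, hs⟩ := exists_smooth_of_formallySmooth_stalk f x hx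
  have : Smooth (f.resLE U V e) := by
    have : IsAffine U.toScheme := hU
    have : IsAffine V.toScheme := hV
    rw [HasRingHomProperty.iff_of_isAffine (P := @Smooth)]
    show ((f.resLE U V e).app ⊤).hom.Smooth
    rw [Scheme.Hom.resLE_app_top]
    show (U.topIso.hom ≫ f.appLE U V e ≫ V.topIso.inv : Γ(U.toScheme, ⊤) ⟶ Γ(V.toScheme, ⊤)).hom.Smooth
    rw [CommRingCat.hom_comp, RingHom.Smooth.respectsIso.cancel_left_isIso, CommRingCat.hom_comp, RingHom.Smooth.respectsIso.cancel_right_isIso]
    exact hs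
  have h := Flat.stalkMap (f.resLE U V e ≫ U.ι) ⟨x, hxV⟩
  rw [Scheme.Hom.stalkMap_congr_hom _ _ (f.resLE_comp_ι e), Scheme.Hom.stalkMap_comp] at h
  exact (RingHom.Flat.respectsIso.cancel_right_isIso _ (V.ι.stalkMap ⟨x, hxV⟩)).1
    ((RingHom.Flat.respectsIso.cancel_left_isIso _ _).1 h)

theorem regular_stalk [LocallyOfFinitePresentation f] [IsLocallyNoetherian Y] (x : X) (hx : x ∈ f.smoothLocus) :
    IsRegularLocalRing (X.presheaf.stalk x) ↔ IsRegularLocalRing (Y.presheaf.stalk (f x)) := by
  obtain ⟨U, hU, V, hV, e, hxV, hs⟩ := exists_smooth_of_formallySmooth_stalk f x hx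
  letI := (f.appLE U V e).hom.toAlgebra
  obtain ⟨⟨e₁⟩, ⟨e₂⟩⟩ := exists_equivs f hU hV e hxV
  have : IsNoetherianRing Γ(Y, U) := IsLocallyNoetherian.component_noetherian ⟨U, hU⟩
  have hr := regular (R := Γ(Y, U)) (hV.primeIdealOf ⟨x, hxV⟩).asIdeal hs
  refine ⟨fun h => ?_, fun h => ?_⟩
  · have := hr.1 (IsRegularLocalRing.of_ringEquiv e₁.symm)
    exact IsRegularLocalRing.of_ringEquiv e₂
  · have := hr.2 (IsRegularLocalRing.of_ringEquiv e₂.symm)
    exact IsRegularLocalRing.of_ringEquiv e₁

end Groth.Agent.SmoothStalk
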