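/-
Serre's conditions for local rings of a smooth morphism.
-/
import Groth.Agent.SmoothStalk.Basic
import Groth.Agent.CAlgT1.SkFlat
import Groth.Agent.SyntLocal.Basic
import Groth.Agent.FFDesc.Basic
import Groth.Agent.RegLocus.Rk
import Groth.Agent.RegIdealReg.Quot
import Groth.Agent.S2608
import Mathlib.RingTheory.KrullDimension.Polynomial

set_option autoImplicit false
set_option linter.style.haveILetI false
universe u
open AlgebraicGeometry CategoryTheory TensorProduct

namespace Groth.Agent.SmoothStalk

theorem hasSk_of_regular (R : Type u) [CommRing R] (k : ℕ)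
    (h : ∀ (P : Ideal R) [P.IsPrime], IsRegularLocalRing (Localization.AtPrime P)) : LocCoh.HasSk k R R := by
  rw [CAlgT1.hasSk_self_iff]
  intro P _
  haveI := h P
  have hcm := RegIdealReg.isCohenMacaulayModule_self_of_regular (Localization.AtPrime P)
  rw [LocCoh.IsCohenMacaulayModule, Module.supportDim_self_eq_ringKrullDim] at hcm
  rw [← hcm]
  exact min_le_right _ _

theorem regular_of_smooth_field (K F : Type u) [Field K] [CommRing F] [Algebra K F] [Algebra.Smooth K F]
    (P : Ideal F) [P.IsPrime] : IsRegularLocalRing (Localization.AtPrime P) := by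
  refine RegLocus.regular_of_smoothAt K F P ?_
  let q := P.comap (algebraMap K F)
  have hb : Function.Bijective (algebraMap K (Localization.AtPrime q)) :=
    IsField.localization_map_bijective (M := q.primeCompl) (fun h => h (zero_mem _)) (Field.toIsField K)
  exact IsRegularLocalRing.of_ringEquiv (RingEquiv.ofBijective _ hb)

attribute [local instance] Algebra.TensorProduct.rightAlgebra in
theorem hasSk_ring {R S : Type u} [CommRing R] [CommRing S] [Algebra R S] [IsNoetherianRing R] (P : Ideal S) [P.IsPrime]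
    (hs : Algebra.Smooth R S) (k : ℕ) :
    LocCoh.HasSk k (Localization.AtPrime P) (Localization.AtPrime P) ↔
      LocCoh.HasSk k (Localization.AtPrime (P.comap (algebraMap R S))) (Localization.AtPrime (P.comap (algebraMap R S))) := by
  let p := P.comap (algebraMap R S)
  let A := Localization.AtPrime p
  let B := Localization.AtPrime P
  let E := A ⊗[R] S
  letI : Algebra A B := (Localization.localRingHom p P (algebraMap R S) rfl).toAlgebra
  haveI : IsScalarTower R A B := .of_algebraMap_eq fun x => by
    rw [IsScalarTower.algebraMap_apply R S B]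
    exact (Localization.localRingHom_to_map p P (algebraMap R S) rfl x).symm
  letI : Algebra E B :=
    (Algebra.TensorProduct.lift (Algebra.ofId A B) (IsScalarTower.toAlgHom R S B)
      fun _ _ => Commute.all _ _).toRingHom.toAlgebra
  haveI : IsScalarTower A E B := .of_algebraMap_eq fun x => by
    show algebraMap A B x = Algebra.TensorProduct.lift (Algebra.ofId A B)
      (IsScalarTower.toAlgHom R S B) (fun _ _ => Commute.all _ _) (x ⊗ₜ 1)
    simp
  haveI : IsScalarTower S E B := .of_algebraMap_eq fun x => by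
    show algebraMap S B x = Algebra.TensorProduct.lift (Algebra.ofId A B)
      (IsScalarTower.toAlgHom R S B) (fun _ _ => Commute.all _ _) (1 ⊗ₜ x)
    simp
  haveI : IsLocalization (Algebra.algebraMapSubmonoid S p.primeCompl) E := inferInstance
  haveI hloc := IsLocalization.isLocalization_of_submonoid_le E B
    (Algebra.algebraMapSubmonoid S p.primeCompl) P.primeCompl (by
      rintro _ ⟨x, hx, rfl⟩
      exact hx)
  haveI := hs
  haveI : Algebra.Smooth A E := inferInstance
  haveI : IsLocalHom (algebraMap A B) := Localization.isLocalHom_localRingHom p P (algebraMap R S) rfl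
  haveI : Module.Flat E B := IsLocalization.flat _ (P.primeCompl.map (algebraMap S E))
  haveI : Module.Flat A B := Module.Flat.trans A E B
  haveI : Module.FaithfullyFlat A B := Module.FaithfullyFlat.of_flat_of_isLocalHom
  haveI : IsNoetherianRing E := Algebra.FiniteType.isNoetherianRing A E
  let Q := (IsLocalRing.maximalIdeal B).comap (algebraMap E B)
  have : IsLocalization.AtPrime B Q := by
    refine IsLocalization.isLocalization_of_is_exists_mul_mem B (P.primeCompl.map (algebraMap S E)) Q.primeCompl ?_ ?_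
    · rintro _ ⟨x, hx, rfl⟩ hxQ
      have hm : algebraMap S B x ∈ IsLocalRing.maximalIdeal B := by
        rw [IsScalarTower.algebraMap_apply S E B]; exact hxQ
      exact (IsLocalRing.mem_maximalIdeal _).1 hm (IsLocalization.map_units (M := P.primeCompl) B ⟨x, hx⟩)
    · rintro ⟨x, hx⟩
      obtain ⟨⟨y, m⟩, hy⟩ := IsLocalization.surj (P.primeCompl.map (algebraMap S E))
        ((IsLocalRing.notMem_maximalIdeal.1 hx).unit⁻¹ : Bˣ).val
      obtain ⟨⟨c, hc⟩, hc'⟩ := IsLocalization.exists_of_eq (M := P.primeCompl.map (algebraMap S E)) (S := B)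
        (x := x * y) (y := (m : E)) (by
          rw [map_mul, ← hy, ← mul_assoc]
          rw [show algebraMap E B x * _ = 1 from (IsLocalRing.notMem_maximalIdeal.1 hx).mul_val_inv, one_mul])
      refine ⟨c * y, ?_⟩
      rw [mul_assoc, mul_comm y x]
      rw [hc']
      exact mul_mem hc m.2
  haveI : IsNoetherianRing B := IsLocalization.isNoetherianRing Q.primeCompl B inferInstance
  refine ⟨fun h => FFDesc.hasSk_descent k A B h, fun h => SyntLocal.hasSk_localization ?_ Q B⟩
  refine CAlgT1.hasSk_of_flat_of_fibres k h fun q _ => hasSk_of_regular _ k fun P' _ => ?_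
  exact regular_of_smooth_field q.ResidueField (q.Fiber E) P'

theorem hasRk_ring {R S : Type u} [CommRing R] [CommRing S] [Algebra R S] [IsNoetherianRing R] (P : Ideal S) [P.IsPrime]
    (hs : Algebra.Smooth R S) (k : ℕ) :
    EGA4.HasRkAt k S P ↔ EGA4.HasRkAt k R (P.comap (algebraMap R S)) := by
  haveI := hs
  haveI : IsNoetherianRing S := Algebra.FiniteType.isNoetherianRing R S
  refine ⟨fun h => S2608.result k R S P h, fun h => ?_⟩
  rw [RegLocus.hasRkAt_iff] at h ⊢
  intro q _ hqP hq
  refine RegLocus.regular_of_smoothAt R S q (h _ (Ideal.comap_mono hqP) (le_trans ?_ hq))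
  haveI : q.LiesOver (q.comap (algebraMap R S)) := ⟨rfl⟩
  rw [Ideal.height_eq_height_add_of_liesOver_of_hasGoingDown (q.comap (algebraMap R S)) (P := q)]
  exact le_self_add

end Groth.Agent.SmoothStalk

namespace Groth.Agent.SmoothStalk

theorem hasSk_of_ringEquiv {R S : Type u} [CommRing R] [CommRing S] [IsNoetherianRing R] [IsLocalRing R]
    (e : R ≃+* S) (k : ℕ) (h : LocCoh.HasSk k R R) : LocCoh.HasSk k S S := by
  letI : Algebra S R := e.symm.toRingHom.toAlgebra
  haveI : Module.FaithfullyFlat S R := Module.FaithfullyFlat.of_linearEquiv (R := S) (M := S) (N := R)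
    (LinearEquiv.ofBijective (Algebra.linearMap S R) e.symm.bijective).symm
  exact FFDesc.hasSk_descent k S R h

theorem hasRk_of_ringEquiv {R S : Type u} [CommRing R] [CommRing S] [IsNoetherianRing R]
    (e : R ≃+* S) (k : ℕ) (h : LocCoh.HasRk k R) : LocCoh.HasRk k S := by
  letI : Algebra S R := e.symm.toRingHom.toAlgebra
  haveI : Module.FaithfullyFlat S R := Module.FaithfullyFlat.of_linearEquiv (R := S) (M := S) (N := R)
    (LinearEquiv.ofBijective (Algebra.linearMap S R) e.symm.bijective).symm
  exact FFDesc.hasRk_descent k S R h (fun A _ _ _ B _ _ _ _ _ => Groth.Agent.S0565.result A B)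

variable {X Y : Scheme.{u}} (f : X ⟶ Y)

theorem hasSk_hasRk_stalk [LocallyOfFinitePresentation f] [IsLocallyNoetherian Y] (x : X) (hx : x ∈ f.smoothLocus)
    (k : ℕ) :
    (LocCoh.HasSk k (X.presheaf.stalk x) (X.presheaf.stalk x) ↔
        LocCoh.HasSk k (Y.presheaf.stalk (f x)) (Y.presheaf.stalk (f x))) ∧
      (LocCoh.HasRk k (X.presheaf.stalk x) ↔ LocCoh.HasRk k (Y.presheaf.stalk (f x))) := by
  obtain ⟨U, hU, V, hV, e, hxV, hs⟩ := exists_smooth_of_formallySmooth_stalk f x hx
  letI := (f.appLE U V e).hom.toAlgebra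
  obtain ⟨⟨e₁⟩, ⟨e₂⟩⟩ := exists_equivs f hU hV e hxV
  haveI : IsNoetherianRing Γ(Y, U) := IsLocallyNoetherian.component_noetherian ⟨U, hU⟩
  haveI : Algebra.Smooth Γ(Y, U) Γ(X, V) := hs
  haveI : IsNoetherianRing Γ(X, V) := Algebra.FiniteType.isNoetherianRing Γ(Y, U) Γ(X, V)
  set P := (hV.primeIdealOf ⟨x, hxV⟩).asIdeal
  haveI : IsNoetherianRing (Localization.AtPrime P) := IsLocalization.isNoetherianRing P.primeCompl _ inferInstance
  haveI : IsNoetherianRing (Localization.AtPrime (P.comap (algebraMap Γ(Y, U) Γ(X, V)))) :=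
    IsLocalization.isNoetherianRing (P.comap (algebraMap Γ(Y, U) Γ(X, V))).primeCompl _ inferInstance
  haveI : IsLocallyNoetherian X := LocallyOfFiniteType.isLocallyNoetherian f
  refine ⟨⟨fun h => ?_, fun h => ?_⟩, ⟨fun h => ?_, fun h => ?_⟩⟩
  · exact hasSk_of_ringEquiv e₂ k ((hasSk_ring P hs k).1 (hasSk_of_ringEquiv e₁.symm k h))
  · exact hasSk_of_ringEquiv e₁ k ((hasSk_ring P hs k).2 (hasSk_of_ringEquiv e₂.symm k h))
  · exact hasRk_of_ringEquiv e₂ k ((hasRk_ring P hs k).1 (hasRk_of_ringEquiv e₁.symm k h))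
  · exact hasRk_of_ringEquiv e₁ k ((hasRk_ring P hs k).2 (hasRk_of_ringEquiv e₂.symm k h))

end Groth.Agent.SmoothStalk
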