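/-
The closed fibre of a smooth local map is regular; codepth is invariant.
-/
import Groth.Agent.SmoothStalk.Basic
import Groth.Agent.FlatLocalDepth.FibreStalk
import Groth.Agent.RectDepth.RingCodepth
import Groth.Agent.RegIdealReg.Quot
import Mathlib.AlgebraicGeometry.Fiber

set_option autoImplicit false
set_option linter.style.haveILetI false
universe u
open AlgebraicGeometry CategoryTheory CategoryTheory.Limits IsLocalRing

namespace Groth.Agent.SmoothStalk

variable {X Y : Scheme.{u}}

theorem isLocallyNoetherian_spec_field (K : Type u) [Field K] : IsLocallyNoetherian (Spec (CommRingCat.of K)) :=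
  inferInstance

theorem regular_stalk_spec_field (K : Type u) [Field K] (s : Spec (CommRingCat.of K)) :
    IsRegularLocalRing ((Spec (CommRingCat.of K)).presheaf.stalk s) := by
  have hb : Function.Bijective (algebraMap K (Localization.AtPrime s.asIdeal)) :=
    IsField.localization_map_bijective (M := s.asIdeal.primeCompl) (fun h => h (zero_mem _)) (Field.toIsField K)
  haveI : IsRegularLocalRing (Localization.AtPrime s.asIdeal) :=
    IsRegularLocalRing.of_ringEquiv (RingEquiv.ofBijective _ hb)
  exact IsRegularLocalRing.of_ringEquiv (Spec.stalkIso (CommRingCat.of K) s).commRingCatIsoToRingEquiv.symm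

theorem regular_fibre_of_smooth (g : X ⟶ Y) [Smooth g] (x : X) :
    IsRegularLocalRing (X.presheaf.stalk x ⧸ (maximalIdeal (Y.presheaf.stalk (g x))).map (g.stalkMap x).hom) := by
  obtain ⟨e⟩ := FlatLocalDepth.nonempty_asFiber_stalk_equiv g x
  let π := g.fiberToSpecResidueField (g x)
  have : Smooth π := MorphismProperty.pullback_snd _ _ inferInstance
  have h := regular_stalk π (g.asFiber x) (by rw [Scheme.Hom.smoothLocus_eq_top π]; trivial)
  have := h.2 (regular_stalk_spec_field _ _)
  exact IsRegularLocalRing.of_ringEquiv e.symm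

theorem regular_quot_of_comp {A B C : Type u} [CommRing A] [CommRing B] [CommRing C] (φ : A →+* B) (ψ : B →+* C)
    (hψ : Function.Bijective ψ) (I : Ideal A) (h : IsRegularLocalRing (C ⧸ I.map (ψ.comp φ))) :
    IsRegularLocalRing (B ⧸ I.map φ) := by
  let e := RingEquiv.ofBijective ψ hψ
  refine IsRegularLocalRing.of_ringEquiv (Ideal.quotientEquiv (I.map (ψ.comp φ)) (I.map φ) e.symm ?_)
  rw [← Ideal.map_map]
  exact (Ideal.map_of_equiv e).symm

theorem regular_fibre (f : X ⟶ Y) (x : X) (hx : ∃ U : X.Opens, x ∈ U ∧ Smooth (U.ι ≫ f)) :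
    IsRegularLocalRing (X.presheaf.stalk x ⧸ (maximalIdeal (Y.presheaf.stalk (f x))).map (f.stalkMap x).hom) := by
  obtain ⟨U, hxU, hs⟩ := hx
  have h := regular_fibre_of_smooth (U.ι ≫ f) ⟨x, hxU⟩
  rw [Scheme.Hom.stalkMap_comp] at h
  exact regular_quot_of_comp (f.stalkMap x).hom (U.ι.stalkMap ⟨x, hxU⟩).hom
    (ConcreteCategory.bijective_of_isIso (U.ι.stalkMap ⟨x, hxU⟩)) (maximalIdeal (Y.presheaf.stalk (f x))) h

theorem codepth_eq {A B : Type u} [CommRing A] [CommRing B] [IsLocalRing A] [IsLocalRing B]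
    [IsNoetherianRing A] [IsNoetherianRing B] (φ : A →+* B) [IsLocalHom φ] (hfl : φ.Flat)
    (hF : IsRegularLocalRing (B ⧸ (maximalIdeal A).map φ)) :
    ringKrullDim B + ((LocCoh.depth A A : ℕ∞) : WithBot ℕ∞) =
      ringKrullDim A + ((LocCoh.depth B B : ℕ∞) : WithBot ℕ∞) := by
  letI := φ.toAlgebra
  haveI : Module.Flat A B := hfl
  haveI : IsLocalHom (algebraMap A B) := ‹_›
  haveI := hF
  set F := B ⧸ (maximalIdeal A).map (algebraMap A B)
  haveI : IsRegularLocalRing F := hF
  rw [FlatLocalDepth.ringKrullDim_eq_add A B, FlatLocalDepth.depth_eq_add A B,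
    ← Depth.depth_eq_of_surjective (R := B) (S := F) (M := F) Ideal.Quotient.mk_surjective]
  have h : ringKrullDim F = (LocCoh.depth F F : WithBot ℕ∞) := by
    have := RegIdealReg.isCohenMacaulayModule_self_of_regular F
    rw [← Module.supportDim_self_eq_ringKrullDim]
    exact this
  rw [h, WithBot.coe_add]
  ac_rfl

end Groth.Agent.SmoothStalk
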